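import Groth.Agent.Fano.K123.Van
import Groth.Agent.Fga.ClosedSub

/-!
# Closed subschemes `F = 0` of the projective plane over a base, universal property and base change of conics

* `exists_isZer`: existence of the closed subscheme `F = 0`;
* `existsUnique_hom`: morphisms to a conic are given by sections at which the form vanishes;
* `isCon_pullback`: base change.
-/

set_option autoImplicit false

universe u

open CategoryTheory CategoryTheory.Limits AlgebraicGeometry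

namespace K123.ConA

open K390.PnSec Groth.Agent.Fdesc.LocGen Groth.Agent.Dix.ProjProper K188.LineDef K745.ConDef

/-- The sheaf `O(1)` on the projective plane over `T`. -/
noncomputable abbrev N2 (T : Scheme.{u}) : (P2 T).Modules :=
  (Scheme.Modules.pullback (toZ 2 T)).obj (O1 2 Z.{u})

theorem isInvertible_N2 (T : Scheme.{u}) : PicF.IsInvertible (N2 T) :=
  isInvertible_pullback _ (isInvertible_O1 2 Z.{u})

section pmap

variable {T'' T' T : Scheme.{u}}

/-- The morphism `P2 T' ⟶ P2 T` over `g : T' ⟶ T`. -/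
noncomputable def pmap2 {T' T : Scheme.{u}} (g : T' ⟶ T) : P2 T' ⟶ P2 T := liftP (toZ 2 T') (pr2 T' ≫ g)

@[reassoc (attr := simp)]
theorem pmap2_toZ (g : T' ⟶ T) : pmap2 g ≫ toZ 2 T = toZ 2 T' := liftP_toZ _ _

@[reassoc (attr := simp)]
theorem pmap2_pr2 (g : T' ⟶ T) : pmap2 g ≫ pr2 T = pr2 T' ≫ g := liftP_toBase _ _

theorem isPullback_pmap2 (g : T' ⟶ T) : IsPullback (pmap2 g) (pr2 T') (pr2 T) g := by
  refine IsPullback.of_right (h₁₂ := toZ 2 T) (h₂₂ := specULiftZIsTerminal.from T)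
    (v₁₃ := CohB1.ProjSpace.toSpec 2 (ULift.{u} ℤ)) ?_ (pmap2_pr2 g) (isPullback_toZ 2 T)
  rw [pmap2_toZ, specULiftZIsTerminal.hom_ext (g ≫ specULiftZIsTerminal.from T) (specULiftZIsTerminal.from T')]
  exact isPullback_toZ 2 T'

end pmap

/-- The coordinates pulled back along a morphism to the projective plane give its first component. -/
theorem givenBy_crd {T Y : Scheme.{u}} (r : Y ⟶ P2 T) {r0 : Y ⟶ CohB1.ProjSpace 2 Z.{u}} (h : r ≫ toZ 2 T = r0) :
    GivenBy r0 ((Scheme.Modules.pullback r).obj (N2 T)) (fun i => pullTop r (crd 2 T i)) := by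
  subst h
  exact (GivenBy.refl (toZ 2 T)).comp r

/-- Vanishing at the sections defining a morphism. -/
theorem van_iff_of_givenBy {T Y : Scheme.{u}} {n : ℕ} {r : Y ⟶ CohB1.ProjSpace n Z.{u}} {M M' : Y.Modules}
    {s : Fin (n + 1) → Γ(M, ⊤)} {s' : Fin (n + 1) → Γ(M', ⊤)} (h : GivenBy r M s) (h' : GivenBy r M' s')
    (f : Y ⟶ T) (F : MvPolynomial (Fin (n + 1)) Γ(T, ⊤)) : Van f s F ↔ Van f s' F := by
  obtain ⟨e, he⟩ := h.exists_iso h'
  exact Van.van_iso_iff e he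

section K1

variable {T : Scheme.{u}} {m : ℕ}

/-- The condition defining the closed subscheme `F = 0`. -/
def PF (F : MvPolynomial (Fin 3) Γ(T, ⊤)) {Y : Scheme.{u}} (r : Y ⟶ P2 T) : Prop :=
  Van (r ≫ pr2 T) (fun i => pullTop r (crd 2 T i)) F

theorem pf_comp_iff (F : MvPolynomial (Fin 3) Γ(T, ⊤)) {Y Y' : Scheme.{u}} (j : Y' ⟶ Y) (r : Y ⟶ P2 T) :
    PF F (j ≫ r) ↔ Van (j ≫ r ≫ pr2 T) (fun i => pullTop j (pullTop r (crd 2 T i))) F := by
  unfold PF
  rw [Category.assoc]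
  have h1 := (givenBy_crd r rfl).comp j
  exact van_iff_of_givenBy (givenBy_crd (j ≫ r) (Category.assoc _ _ _)) h1 _ F

theorem pf_iff (F : MvPolynomial (Fin 3) Γ(T, ⊤)) (hF : F.IsHomogeneous m) {Y : Scheme.{u}} (r : Y ⟶ P2 T)
    {U : (P2 T).Opens} {e : Γ(N2 T, U)} (he : IsGen e) {a : Fin 3 → Γ(P2 T, U)}
    (ha : ∀ i, res (N2 T) le_top (crd 2 T i) = a i • e) (hU : r ⁻¹ᵁ U = ⊤) :
    PF F r ↔ r.app U (MvPolynomial.eval₂ (ρV (pr2 T) U) a F) = 0 := by
  have ha' : ∀ i, res _ le_top (pullTop r (crd 2 T i)) = (r.app U (a i) : Γ(Y, r ⁻¹ᵁ U)) • pullSec r e := by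
    intro i
    rw [← pullSec_smul, ← ha]
    exact res_pullSec r (le_top : U ≤ ⊤) (crd 2 T i)
  constructor
  · intro h
    rw [Van.app_eval₂]
    exact h _ _ _ (he.pullSec r) ha'
  · intro h
    refine Van.van_of_cover hF fun t => ⟨r ⁻¹ᵁ U, by rw [hU]; trivial, _, _, he.pullSec r, ha', ?_⟩
    rw [← Van.app_eval₂]
    exact h

theorem isClosedCond (F : MvPolynomial (Fin 3) Γ(T, ⊤)) (hF : F.IsHomogeneous m) :
    Groth.Agent.Fga.ClosedSub.IsClosedCond (P2 T) (fun _ => True) (fun {Y} r => PF F r) where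
  comp j h _ _ hP := by
    rw [pf_comp_iff]
    exact Van.pullback (isInvertible_pullback _ (isInvertible_N2 T)) hF hP j
  loc {Y} h _ hl := by
    refine Van.van_of_locally (isInvertible_pullback _ (isInvertible_N2 T)) hF fun t => ?_
    obtain ⟨V, ht, hV⟩ := hl t
    exact ⟨V, ht, (pf_comp_iff F _ _).1 hV⟩
  aff x := by
    obtain ⟨U', e', hx', he'⟩ := (isInvertible_iff (N2 T)).1 (isInvertible_N2 T) x
    obtain ⟨U, hU, hx, hUU'⟩ := exists_isAffineOpen_mem_and_subset (x := x) (U := U') hx'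
    have he : IsGen (res (N2 T) hUU' e') := he'.res hUU'
    choose a ha using fun i => he.exists_eq (res (N2 T) le_top (crd 2 T i))
    refine ⟨Γ(P2 T, U), hU.fromSpec, inferInstance, by rw [hU.range_fromSpec]; exact hx,
      Ideal.span {MvPolynomial.eval₂ (ρV (pr2 T) U) a F}, fun B φ _ => ?_⟩
    have h1 : (Spec.map φ ≫ hU.fromSpec) ⁻¹ᵁ U = ⊤ := by
      rw [Scheme.Hom.comp_preimage, hU.fromSpec_preimage_self]
      rfl
    rw [pf_iff F hF _ he ha h1]
    have h2 : ∀ b : Γ(P2 T, U), (Spec.map φ ≫ hU.fromSpec).app U b = 0 ↔ φ.hom b = 0 := by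
      intro b
      have h3 : (Spec.map φ ≫ hU.fromSpec).app U = φ ≫ (Scheme.ΓSpecIso B).inv ≫
          (Spec B).presheaf.map (homOfLE le_top : (Spec.map φ ≫ hU.fromSpec) ⁻¹ᵁ U ⟶ ⊤).op := by
        rw [Scheme.Hom.comp_app, hU.fromSpec_app_self, Category.assoc, Scheme.Hom.naturality,
          Scheme.ΓSpecIso_inv_naturality_assoc]
        rfl
      have h4 : IsIso ((Spec B).presheaf.map (homOfLE le_top : (Spec.map φ ≫ hU.fromSpec) ⁻¹ᵁ U ⟶ ⊤).op) := by
        have h5 : IsIso (homOfLE le_top : (Spec.map φ ≫ hU.fromSpec) ⁻¹ᵁ U ⟶ ⊤) :=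
          ⟨homOfLE h1.ge, rfl, rfl⟩
        infer_instance
      rw [h3, ← Category.assoc]
      exact map_eq_zero_iff _ (ConcreteCategory.bijective_of_isIso ((Scheme.ΓSpecIso B).inv ≫
        (Spec B).presheaf.map (homOfLE le_top : (Spec.map φ ≫ hU.fromSpec) ⁻¹ᵁ U ⟶ ⊤).op)).1
    rw [h2]
    constructor
    · intro h b hb
      obtain ⟨c, rfl⟩ := Ideal.mem_span_singleton'.1 hb
      rw [map_mul, h, mul_zero]
    · intro h
      exact h _ (Ideal.mem_span_singleton_self _)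

/-- **Node K1**: existence of the closed subscheme `F = 0` of the projective plane over an arbitrary base. -/
theorem exists_isZer {T : Scheme.{u}} {m : ℕ} (F : MvPolynomial (Fin 3) Γ(T, ⊤)) (hF : F.IsHomogeneous m) :
    ∃ (C : Scheme.{u}) (ι : C ⟶ P2 T), IsZer ι F := by
  obtain ⟨Z, i, hi, -, -, h⟩ := Groth.Agent.Fga.ClosedSub.exists_closed
    (Groth.Agent.Fga.ClosedSub.TestClass.all (P2 T)) (isClosedCond F hF)
  exact ⟨Z, i, hi, fun r => (h r trivial).symm⟩

end K1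

section K

variable {T C : Scheme.{u}} {c : Fin 5 → Γ(T, ⊤)} {f : C ⟶ T} {L : C.Modules} {x : Fin 3 → Γ(L, ⊤)}

/-- **Node K2a**: the universal property of a conic. -/
theorem existsUnique_hom (h : IsCon c f L x) {Y : Scheme.{u}} (g : Y ⟶ T) (M : Y.Modules)
    (hM : PicF.IsInvertible M) (y : Fin 3 → Γ(M, ⊤)) (hy : Gens y) (hv : Van g y (qf c)) :
    ∃! r : Y ⟶ C, r ≫ f = g ∧
      ∃ τ : (Scheme.Modules.pullback r).obj L ≅ M, ∀ i, τ.hom.app ⊤ (pullTop r (x i)) = y i := by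
  obtain ⟨ι, rfl, hL, hι⟩ := h
  have := hι.isClosedImmersion
  obtain ⟨r0, hr0⟩ := exists_givenBy' y hy
  have hz := liftP_toZ r0 g
  have hb := liftP_toBase r0 g
  have hv' : Van (liftP r0 g ≫ pr2 T) (fun i => pullTop (liftP r0 g) (crd 2 T i)) (qf c) := by
    have h1 := (van_iff_of_givenBy (givenBy_crd (liftP r0 g) hz) hr0 g (qf c)).2 hv
    rw [hb]
    exact h1
  obtain ⟨r, hr⟩ := (hι.exists_iff _).2 hv'
  refine ⟨r, ⟨?_, ?_⟩, ?_⟩
  · rw [← Category.assoc, hr, hb]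
  · have h1 := hL.comp r
    rw [← Category.assoc, hr, hz] at h1
    exact h1.exists_iso hr0
  · rintro r' ⟨h1, τ, hτ⟩
    rw [← cancel_mono ι, hr]
    refine hom_ext_over ?_ ?_
    · rw [hz]
      have h2 := (hL.comp r').of_iso τ
      rw [funext hτ] at h2
      exact (Category.assoc _ _ _).trans (h2.unique' hr0)
    · rw [hb]
      exact (Category.assoc _ _ _).trans h1

/-- **Node K2b**: base change of a conic. -/
theorem isCon_pullback (h : IsCon c f L x) {T' C' : Scheme.{u}} {i : C' ⟶ C} {f' : C' ⟶ T'} {g : T' ⟶ T}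
    (hP : IsPullback i f' f g) :
    IsCon (fun j => g.appTop (c j)) f' ((Scheme.Modules.pullback i).obj L) (fun j => pullTop i (x j)) := by
  obtain ⟨ι, rfl, hL, hι⟩ := h
  have := hι.isClosedImmersion
  have hz := liftP_toZ (i ≫ ι ≫ toZ 2 T) f'
  have hb := liftP_toBase (i ≫ ι ≫ toZ 2 T) f'
  have hsq : i ≫ ι = liftP (i ≫ ι ≫ toZ 2 T) f' ≫ pmap2 g := by
    refine hom_ext_over ?_ ?_
    · rw [Category.assoc, Category.assoc, pmap2_toZ, hz]
    · rw [Category.assoc, Category.assoc, pmap2_pr2, ← Category.assoc (liftP _ _), hb]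
      exact hP.w
  have hP' : IsPullback i (liftP (i ≫ ι ≫ toZ 2 T) f') ι (pmap2 g) := by
    refine IsPullback.of_bot (v₂₁ := pr2 T') (v₂₂ := pr2 T) (h₃₁ := g) ?_ hsq (isPullback_pmap2 g)
    have hb' : liftP (i ≫ ι ≫ toZ 2 T) f' ≫ pr2 T' = f' := hb
    rw [hb']
    exact hP
  refine ⟨liftP (i ≫ ι ≫ toZ 2 T) f', hb, ?_, ?_, fun {Y} r => ?_⟩
  · rw [hz]
    exact hL.comp i
  · exact MorphismProperty.of_isPullback hP' hι.isClosedImmersion
  · have h1 : (∃ h, h ≫ liftP (i ≫ ι ≫ toZ 2 T) f' = r) ↔ ∃ h, h ≫ ι = r ≫ pmap2 g := by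
      constructor
      · rintro ⟨h, rfl⟩
        exact ⟨h ≫ i, by rw [Category.assoc, Category.assoc, hsq]⟩
      · rintro ⟨h, hh⟩
        exact ⟨hP'.lift h r hh, hP'.lift_snd _ _ _⟩
    rw [h1, hι.exists_iff, Category.assoc, pmap2_pr2, ← Category.assoc, Van.van_comp_iff, map_qf]
    refine van_iff_of_givenBy (givenBy_crd (r ≫ pmap2 g) ?_) (givenBy_crd r rfl) _ _
    rw [Category.assoc, pmap2_toZ]

end K

end K123.ConA
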