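import Groth.Agent.Fano.K745.ConDef

/-!
# Forms vanishing at sections: change of module, of base and of source; locality

* `Van.of_iso`, `van_iso_iff` : change of the module;
* `van_comp_iff` : change of the base, `Van (q ≫ g) x F ↔ Van q x (F.map g)`;
* `van_of_cover` : for a homogeneous form, it is enough to check on a cover with generators;
* `Van.pullback` : change of the source, for a homogeneous form and an invertible module;
* `van_of_locally` : vanishing is local on the source.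
-/

set_option autoImplicit false

universe u

open CategoryTheory CategoryTheory.Limits AlgebraicGeometry

namespace K123.Van

open K390.PnSec Groth.Agent.Fdesc.LocGen Groth.Agent.Dix.ProjProper K188.LineDef K745.ConDef

variable {T T' C Y : Scheme.{u}} {m d : ℕ}

theorem ρV_comp (q : C ⟶ T') (g : T' ⟶ T) (V : C.Opens) : ρV (q ≫ g) V = (ρV q V).comp g.appTop.hom := by
  unfold ρV
  rw [Scheme.Hom.comp_appTop, CommRingCat.hom_comp]
  rfl

theorem ores_ρV (f : C ⟶ T) {V W : C.Opens} (h : W ≤ V) : (ores h).comp (ρV f V) = ρV f W := by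
  ext a
  exact ores_ores le_top h (f.appTop a)

theorem ores_eval₂ (f : C ⟶ T) {V W : C.Opens} (h : W ≤ V) (a : Fin m → Γ(C, V)) (F : MvPolynomial (Fin m) Γ(T, ⊤)) :
    ores h (MvPolynomial.eval₂ (ρV f V) a F) = MvPolynomial.eval₂ (ρV f W) (fun i => ores h (a i)) F := by
  rw [MvPolynomial.eval₂_comp_left, ores_ρV]
  rfl

/-- Functions on the base and pullback of functions. -/
theorem app_ρV (f : C ⟶ T) (g : Y ⟶ C) (V : C.Opens) : (g.app V).hom.comp (ρV f V) = ρV (g ≫ f) (g ⁻¹ᵁ V) := by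
  ext a
  have h1 := congr(($(g.naturality (homOfLE (le_top : V ≤ ⊤)).op)).hom (f.appTop a))
  change g.app V (ores le_top (f.appTop a)) = ores le_top ((g ≫ f).appTop a)
  rw [Scheme.Hom.comp_appTop]
  exact h1

theorem app_eval₂ (f : C ⟶ T) (g : Y ⟶ C) (V : C.Opens) (a : Fin m → Γ(C, V)) (F : MvPolynomial (Fin m) Γ(T, ⊤)) :
    g.app V (MvPolynomial.eval₂ (ρV f V) a F) =
      MvPolynomial.eval₂ (ρV (g ≫ f) (g ⁻¹ᵁ V)) (fun i => (g.app V (a i) : Γ(Y, g ⁻¹ᵁ V))) F := by
  have h1 := MvPolynomial.eval₂_comp_left (g.app V).hom (ρV f V) a F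
  rw [app_ρV] at h1
  exact h1

/-- A homogeneous form at proportional vectors. -/
theorem eval₂_mul_of_isHomogeneous {A B : Type u} [CommRing A] [CommRing B] (ρ : A →+* B)
    {F : MvPolynomial (Fin m) A} (hF : F.IsHomogeneous d) (u : B) (a : Fin m → B) :
    MvPolynomial.eval₂ ρ (fun i => u * a i) F = u ^ d * MvPolynomial.eval₂ ρ a F := by
  rw [MvPolynomial.eval₂_eq, MvPolynomial.eval₂_eq, Finset.mul_sum]
  refine Finset.sum_congr rfl fun e he => ?_
  have h1 : ∑ i, e i = d := by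
    have := hF (MvPolynomial.mem_support_iff.1 he)
    rw [Finsupp.weight_apply] at this
    rw [← this, Finsupp.sum_fintype _ _ (by simp)]
    simp
  have h2 : ∏ i ∈ e.support, (u * a i) ^ e i = u ^ d * ∏ i ∈ e.support, a i ^ e i := by
    simp_rw [mul_pow]
    rw [Finset.prod_mul_distrib, Finset.prod_pow_eq_pow_sum]
    congr 2
    rw [← h1]
    exact Finset.sum_subset (Finset.subset_univ _) fun i _ hi => by simpa using hi
  rw [h2]
  ring

section Iso

variable {L L' : C.Modules}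

theorem of_iso {f : C ⟶ T} {x : Fin m → Γ(L, ⊤)} {x' : Fin m → Γ(L', ⊤)} {F : MvPolynomial (Fin m) Γ(T, ⊤)}
    (h : Van f x F) (e : L ≅ L') (he : ∀ i, e.hom.app ⊤ (x i) = x' i) : Van f x' F := by
  intro V s a hs ha
  refine h V (e.inv.app V s) a (hs.app e.inv) fun i => ?_
  have h0 : e.inv.app ⊤ (e.hom.app ⊤ (x i)) = x i := congr(($(e.hom_inv_id).app ⊤) (x i))
  rw [← h0, he, ← app_res, ha i, Scheme.Modules.Hom.app_smul]

theorem van_iso_iff {f : C ⟶ T} {x : Fin m → Γ(L, ⊤)} {x' : Fin m → Γ(L', ⊤)} {F : MvPolynomial (Fin m) Γ(T, ⊤)}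
    (e : L ≅ L') (he : ∀ i, e.hom.app ⊤ (x i) = x' i) : Van f x F ↔ Van f x' F := by
  refine ⟨fun h => of_iso h e he, fun h => of_iso h e.symm fun i => ?_⟩
  rw [← he]
  exact congr(($(e.hom_inv_id).app ⊤) (x i))

end Iso

variable {L : C.Modules}

/-- Change of the base. -/
theorem van_comp_iff (q : C ⟶ T') (g : T' ⟶ T) (x : Fin m → Γ(L, ⊤)) (F : MvPolynomial (Fin m) Γ(T, ⊤)) :
    Van (q ≫ g) x F ↔ Van q x (F.map g.appTop.hom) := by
  unfold Van
  refine forall_congr' fun V => forall_congr' fun e => forall_congr' fun a => forall_congr' fun _ =>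
    forall_congr' fun _ => ?_
  rw [ρV_comp, MvPolynomial.eval₂_map]

/-- For a homogeneous form it is enough to check on a cover. -/
theorem van_of_cover {f : C ⟶ T} {x : Fin m → Γ(L, ⊤)} {F : MvPolynomial (Fin m) Γ(T, ⊤)} (hF : F.IsHomogeneous d)
    (h : ∀ t : C, ∃ (V : C.Opens) (_ : t ∈ V) (e : Γ(L, V)) (a : Fin m → Γ(C, V)), IsGen e ∧
      (∀ i, res L le_top (x i) = a i • e) ∧ MvPolynomial.eval₂ (ρV f V) a F = 0) : Van f x F := by
  intro V e a he ha
  choose W hW e' a' he' ha' hz using h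
  refine ores_ext (fun t : C => V ⊓ W t) (fun t => inf_le_left) ?_ fun t => ?_
  · intro t ht
    exact TopologicalSpace.Opens.mem_iSup.2 ⟨t, ht, hW t⟩
  · obtain ⟨u, hu, hu'⟩ := (he'  t |>.res (inf_le_right : V ⊓ W t ≤ W t)).exists_unit
      (he.res (inf_le_left : V ⊓ W t ≤ V))
    have h1 : ∀ i, ores (inf_le_right : V ⊓ W t ≤ W t) (a' t i) = u * ores (inf_le_left : V ⊓ W t ≤ V) (a i) := by
      intro i
      refine (he' t |>.res (inf_le_right : V ⊓ W t ≤ W t)).ext ?_
      rw [mul_comm, mul_smul, ← hu', ← res_smul, ← res_smul, ← ha, ← ha', res_res, res_res]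
    have h2 := congrArg (ores (inf_le_right : V ⊓ W t ≤ W t)) (hz t)
    rw [ores_eval₂, map_zero, funext h1, eval₂_mul_of_isHomogeneous _ hF] at h2
    rw [ores_eval₂, map_zero]
    exact (hu.pow d).mul_right_eq_zero.1 h2

/-- Change of the source. -/
theorem pullback {f : C ⟶ T} {x : Fin m → Γ(L, ⊤)} {F : MvPolynomial (Fin m) Γ(T, ⊤)} (hL : PicF.IsInvertible L)
    (hF : F.IsHomogeneous d) (h : Van f x F) (g : Y ⟶ C) : Van (g ≫ f) (fun i => pullTop g (x i)) F := by
  refine van_of_cover hF fun t => ?_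
  obtain ⟨U, e, ht, he⟩ := (isInvertible_iff L).1 hL (g t)
  choose a ha using fun i => he.exists_eq (res L le_top (x i))
  refine ⟨g ⁻¹ᵁ U, ht, pullSec g e, fun i => g.app U (a i), he.pullSec g, fun i => ?_, ?_⟩
  · rw [← pullSec_smul, ← ha]
    exact res_pullSec g (le_top : U ≤ ⊤) (x i)
  · rw [← app_eval₂, h U e a he ha, map_zero]

/-- Vanishing is local on the source. -/
theorem van_of_locally {f : C ⟶ T} {x : Fin m → Γ(L, ⊤)} {F : MvPolynomial (Fin m) Γ(T, ⊤)}
    (hL : PicF.IsInvertible L) (hF : F.IsHomogeneous d)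
    (h : ∀ t : C, ∃ V : C.Opens, t ∈ V ∧ Van (V.ι ≫ f) (fun i => pullTop V.ι (x i)) F) : Van f x F := by
  refine van_of_cover hF fun t => ?_
  obtain ⟨V, htV, hV⟩ := h t
  obtain ⟨U, e, htU, he⟩ := (isInvertible_iff L).1 hL t
  choose a ha using fun i => he.exists_eq (res L le_top (x i))
  refine ⟨V ⊓ U, ⟨htV, htU⟩, res L inf_le_right e, fun i => ores inf_le_right (a i), he.res _, fun i => ?_, ?_⟩
  · rw [← res_smul, ← ha, res_res]
  · have h1 := hV (V.ι ⁻¹ᵁ U) (pullSec V.ι e) (fun i => V.ι.app U (a i)) (he.pullSec V.ι) fun i => by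
      rw [← pullSec_smul, ← ha]
      exact res_pullSec V.ι (le_top : U ≤ ⊤) (x i)
    rw [← app_eval₂] at h1
    rw [← ores_eval₂]
    have h2 : ∀ b : Γ(C, U), V.ι.app U b = 0 → ores (inf_le_right : V ⊓ U ≤ U) b = 0 := by
      intro b hb
      rw [Scheme.Opens.ι_app] at hb
      have h3 : V.ι ''ᵁ (V.ι ⁻¹ᵁ U) = V ⊓ U := by
        rw [V.ι.image_preimage_eq_opensRange_inf, Scheme.Opens.opensRange_ι]
      have h4 : (V ⊓ U : C.Opens) ≤ V.ι ''ᵁ (V.ι ⁻¹ᵁ U) := h3.ge
      have h5 : ores (inf_le_right : V ⊓ U ≤ U) b = ores h4 (ores (V.ι.image_preimage_le U) b) := by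
        rw [ores_ores]
      rw [h5]
      exact (congrArg _ hb).trans (map_zero _)
    exact h2 _ h1

end K123.Van
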